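import Groth.Agent.Ega4A.DepthBasic
import Mathlib.LinearAlgebra.Matrix.Adjugate
import Mathlib.LinearAlgebra.Matrix.ToLin

/-!
# A local lemma on sections of `coker (J : B^d → B^r)` modulo `f`

`B` a Noetherian local domain of depth `≥ 3`, `f ≠ 0` in the maximal ideal, `J` a `d × r` matrix having, for every
non-maximal prime `𝔭`, a `d × d` minor outside `𝔭`.  A vector lying in `f B^r + B^d J` locally at every non-maximal prime
lies in `f B^r + B^d J`.
-/

set_option autoImplicit false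
universe u

open IsLocalRing Matrix
open scoped Pointwise

namespace Groth.Agent.Lefpen.H938.LocCore

theorem exists_pow_mem {R : Type u} [CommRing R] (m I : Ideal R)
    (h : ∀ q : Ideal R, q.IsPrime → q ≠ m → ∃ s ∈ I, s ∉ q) {x : R} (hx : x ∈ m) : ∃ n : ℕ, x ^ n ∈ I := by
  by_contra hcon
  push Not at hcon
  have hdis : Disjoint (I : Set R) (Submonoid.powers x : Set R) := by
    rw [Set.disjoint_left]
    rintro _ h1 ⟨n, rfl⟩
    exact hcon n h1
  obtain ⟨q, hq, hIq, hdq⟩ := Ideal.exists_le_prime_disjoint I (Submonoid.powers x) hdis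
  have hxq : x ∉ q := fun h1 => Set.disjoint_left.1 hdq h1 (Submonoid.mem_powers x)
  obtain ⟨s, hs, hsq⟩ := h q hq (by rintro rfl; exact hxq hx)
  exact hsq (hIq hs)

variable {B : Type u} [CommRing B] {d r : ℕ}

/-- `det (J_σ) e = (e J)_σ adj (J_σ)`. -/
theorem det_smul_eq (J : Matrix (Fin d) (Fin r) B) (σ : Fin d → Fin r) (e : Fin d → B) :
    (J.submatrix id σ).det • e = ((e ᵥ* J) ∘ σ) ᵥ* (J.submatrix id σ).adjugate := by
  have h1 : (e ᵥ* J) ∘ σ = e ᵥ* (J.submatrix id σ) := by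
    funext i
    rfl
  rw [h1, Matrix.vecMul_vecMul, Matrix.mul_adjugate, Matrix.vecMul_smul, Matrix.vecMul_one]

/-- `f B^r + B^d J`. -/
def M0 (f : B) (J : Matrix (Fin d) (Fin r) B) : Submodule B (Fin r → B) where
  carrier := {v | ∃ (w : Fin r → B) (c : Fin d → B), v = f • w + c ᵥ* J}
  add_mem' := by
    rintro _ _ ⟨w, c, rfl⟩ ⟨w', c', rfl⟩
    refine ⟨w + w', c + c', ?_⟩
    rw [smul_add, Matrix.add_vecMul]
    abel
  zero_mem' := ⟨0, 0, by simp⟩
  smul_mem' := by
    rintro s _ ⟨w, c, rfl⟩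
    refine ⟨s • w, s • c, ?_⟩
    rw [smul_add, Matrix.smul_vecMul, smul_comm]

theorem mem_M0 {f : B} {J : Matrix (Fin d) (Fin r) B} {v : Fin r → B} :
    v ∈ M0 f J ↔ ∃ (w : Fin r → B) (c : Fin d → B), v = f • w + c ᵥ* J := Iff.rfl

theorem exists_pow_smul_mem {R : Type u} [CommRing R] {M : Type u} [AddCommGroup M] [Module R M] (m : Ideal R)
    (P : Submodule R M) (v : M) (h : ∀ q : Ideal R, q.IsPrime → q ≠ m → ∃ s : R, s ∉ q ∧ s • v ∈ P) {x : R}
    (hx : x ∈ m) : ∃ n : ℕ, x ^ n • v ∈ P := by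
  refine exists_pow_mem m (P.comap (LinearMap.toSpanSingleton R M v)) (fun q hq hqm => ?_) hx
  obtain ⟨s, hs, hs'⟩ := h q hq hqm
  exact ⟨s, hs', hs⟩

section Local

variable [IsLocalRing B] [IsNoetherianRing B] [IsDomain B]

omit [IsLocalRing B] [IsNoetherianRing B] [IsDomain B] in
theorem of_regular {f x : B} (hx : IsSMulRegular (QuotSMulTop f B) x) {z t : B} (h : x * z = f * t) :
    ∃ s, z = f * s := by
  have h1 : x • (Submodule.Quotient.mk z : QuotSMulTop f B) = 0 := by
    rw [← Submodule.Quotient.mk_smul, Submodule.Quotient.mk_eq_zero, smul_eq_mul, h]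
    exact Submodule.smul_mem_pointwise_smul t f ⊤ trivial
  have h2 : (Submodule.Quotient.mk z : QuotSMulTop f B) = 0 := hx (by
    change x • _ = x • _
    rw [h1, smul_zero])
  rw [Submodule.Quotient.mk_eq_zero] at h2
  obtain ⟨s, -, hs⟩ := h2
  exact ⟨s, hs.symm⟩

omit [IsLocalRing B] [IsNoetherianRing B] [IsDomain B] in
theorem of_regular₂ {f x y : B} (hy : IsSMulRegular (QuotSMulTop x (QuotSMulTop f B)) y) {z s t : B}
    (h : y * z = f * s + x * t) : ∃ s t, z = f * s + x * t := by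
  have h1 : y • (Submodule.Quotient.mk (Submodule.Quotient.mk z : QuotSMulTop f B) :
      QuotSMulTop x (QuotSMulTop f B)) = 0 := by
    rw [← Submodule.Quotient.mk_smul, ← Submodule.Quotient.mk_smul, Submodule.Quotient.mk_eq_zero, smul_eq_mul, h]
    have h2 : (Submodule.Quotient.mk (f * s + x * t) : QuotSMulTop f B) =
        x • (Submodule.Quotient.mk t : QuotSMulTop f B) := by
      rw [← Submodule.Quotient.mk_smul, ← sub_eq_zero, ← Submodule.Quotient.mk_sub, Submodule.Quotient.mk_eq_zero,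
        smul_eq_mul, add_sub_cancel_right]
      exact Submodule.smul_mem_pointwise_smul s f ⊤ trivial
    rw [h2]
    exact Submodule.smul_mem_pointwise_smul _ x ⊤ trivial
  have h2 : (Submodule.Quotient.mk (Submodule.Quotient.mk z : QuotSMulTop f B) :
      QuotSMulTop x (QuotSMulTop f B)) = 0 := hy (by
    change y • _ = y • _
    rw [h1, smul_zero])
  rw [Submodule.Quotient.mk_eq_zero] at h2
  obtain ⟨t', -, ht'⟩ := h2
  obtain ⟨t', rfl⟩ := Submodule.Quotient.mk_surjective _ t'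
  have h3 : x • (Submodule.Quotient.mk t' : QuotSMulTop f B) = Submodule.Quotient.mk z := ht'
  rw [← Submodule.Quotient.mk_smul, ← sub_eq_zero, ← Submodule.Quotient.mk_sub, Submodule.Quotient.mk_eq_zero] at h3
  obtain ⟨s', -, hs'⟩ := h3
  refine ⟨-s', t', ?_⟩
  have h4 : f * s' = x * t' - z := hs'
  rw [mul_neg, h4]
  ring

theorem main (h3 : 3 ≤ LocCoh.depth B B) {f : B} (hf : f ∈ maximalIdeal B) (hf0 : f ≠ 0)
    (J : Matrix (Fin d) (Fin r) B)
    (hJ : ∀ q : Ideal B, q.IsPrime → q ≠ maximalIdeal B → ∃ σ : Fin d → Fin r, (J.submatrix id σ).det ∉ q)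
    (v : Fin r → B) (hv : ∀ q : Ideal B, q.IsPrime → q ≠ maximalIdeal B → ∃ s : B, s ∉ q ∧ s • v ∈ M0 f J) :
    v ∈ M0 f J := by
  have hnt1 : Nontrivial (QuotSMulTop f B) := by
    rw [Submodule.Quotient.nontrivial_iff]
    intro h
    have h1 : (1 : B) ∈ f • (⊤ : Submodule B B) := by rw [h]; trivial
    obtain ⟨s, -, hs⟩ := h1
    have h2 : f * s = 1 := hs
    exact (mem_maximalIdeal f).1 hf (IsUnit.of_mul_eq_one s h2)
  have hreg1 : IsSMulRegular B f := fun a b hab => mul_left_cancel₀ hf0 hab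
  have hd1 := Groth.Agent.Ega4A.DepthBasic.depth_quotSMulTop_add_one (R := B) B hf hreg1
  have hd1' : 2 ≤ LocCoh.depth B (QuotSMulTop f B) := by
    rw [← hd1] at h3
    have : (2 : ℕ∞) + 1 ≤ LocCoh.depth B (QuotSMulTop f B) + 1 := by
      refine le_trans ?_ h3
      norm_num
    exact (ENat.add_le_add_iff_right (by decide)).1 this
  obtain ⟨x, hx, hxreg⟩ := (Groth.Agent.Ega4A.DepthBasic.one_le_depth_iff (R := B) (QuotSMulTop f B)).1
    (le_trans (by norm_num) hd1')
  -- `J` is injective modulo `f`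
  have hinj : ∀ (e : Fin d → B) (z : Fin r → B), e ᵥ* J = f • z → ∃ e', e = f • e' := by
    intro e z hez
    obtain ⟨n, hn⟩ := exists_pow_smul_mem (maximalIdeal B)
      (f • (⊤ : Submodule B (Fin d → B))) e (fun q hq hqm => by
        obtain ⟨σ, hσ⟩ := hJ q hq hqm
        refine ⟨_, hσ, ?_⟩
        rw [det_smul_eq, hez]
        have h1 : (f • z) ∘ σ = f • (z ∘ σ) := rfl
        rw [h1, Matrix.smul_vecMul]
        exact Submodule.smul_mem_pointwise_smul _ f ⊤ trivial) hx
    obtain ⟨e1, -, he1⟩ := hn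
    have h1 : ∀ i, ∃ s, e i = f * s := fun i => by
      refine of_regular (hxreg.pow n) (t := e1 i) ?_
      have := congrFun he1 i
      exact this.symm
    choose s hs using h1
    exact ⟨s, funext hs⟩
  obtain ⟨m, hm⟩ := exists_pow_smul_mem (maximalIdeal B) (M0 f J) v hv hx
  have hXreg := hxreg.pow m
  -- make sure the exponent is positive
  obtain ⟨X, hX, hXr, hXv⟩ : ∃ X ∈ maximalIdeal B, IsSMulRegular (QuotSMulTop f B) X ∧ X • v ∈ M0 f J := by
    refine ⟨x ^ (m + 1), Ideal.pow_mem_of_mem _ hx _ (Nat.succ_pos m), hxreg.pow _, ?_⟩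
    rw [pow_succ', mul_smul]
    exact (M0 f J).smul_mem _ hm
  have hnt2 : Nontrivial (QuotSMulTop X (QuotSMulTop f B)) := by
    rw [Submodule.Quotient.nontrivial_iff]
    intro h
    have h5 : (⊤ : Submodule B (QuotSMulTop f B)) ≤ maximalIdeal B • ⊤ := by
      conv_lhs => rw [← h]
      rintro _ ⟨z, -, rfl⟩
      exact Submodule.smul_mem_smul hX trivial
    exact Groth.Agent.Ega4A.DepthBasic.maximalIdeal_smul_top_ne_top (R := B) (QuotSMulTop f B) (top_le_iff.1 h5)
  have hd2 := Groth.Agent.Ega4A.DepthBasic.depth_quotSMulTop_add_one (R := B) (QuotSMulTop f B) hX hXr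
  have hd2' : 1 ≤ LocCoh.depth B (QuotSMulTop X (QuotSMulTop f B)) := by
    rw [← hd2] at hd1'
    have : (1 : ℕ∞) + 1 ≤ LocCoh.depth B (QuotSMulTop X (QuotSMulTop f B)) + 1 := by
      refine le_trans ?_ hd1'
      norm_num
    exact (ENat.add_le_add_iff_right (by decide)).1 this
  obtain ⟨y, hy, hyreg⟩ := (Groth.Agent.Ega4A.DepthBasic.one_le_depth_iff (R := B)
    (QuotSMulTop X (QuotSMulTop f B))).1 hd2'
  obtain ⟨m', hm'⟩ := exists_pow_smul_mem (maximalIdeal B) (M0 f J) v hv hy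
  have hYreg := hyreg.pow m'
  set Y := y ^ m' with hY
  obtain ⟨α, c, h1⟩ := hXv
  obtain ⟨β, c', h2⟩ := hm'
  -- `(X c' - Y c) J ∈ f`
  obtain ⟨ε, hε⟩ := hinj (X • c' - Y • c) (Y • α - X • β) (by
    rw [Matrix.sub_vecMul, Matrix.smul_vecMul, Matrix.smul_vecMul]
    have e1 : c' ᵥ* J = Y • v - f • β := by rw [h2]; abel
    have e2 : c ᵥ* J = X • v - f • α := by rw [h1]; abel
    rw [e1, e2, smul_sub, smul_sub, smul_sub, smul_comm X Y v, smul_comm X f β, smul_comm Y f α]
    abel)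
  have h4 : ∀ i, ∃ s t, c i = f * s + X * t := fun i => by
    refine of_regular₂ hYreg (s := - ε i) (t := c' i) ?_
    have := congrFun hε i
    simp only [Pi.sub_apply, Pi.smul_apply, smul_eq_mul] at this
    linear_combination -this
  choose s t hst using h4
  have hc : c = f • s + X • t := funext hst
  have h5 : ∀ j, ∃ w, (v - t ᵥ* J) j = f * w := fun j => by
    refine of_regular hXr (t := (α + s ᵥ* J) j) ?_
    have h6 : X • (v - t ᵥ* J) = f • (α + s ᵥ* J) := by
      rw [smul_sub, h1, hc, Matrix.add_vecMul, Matrix.smul_vecMul, Matrix.smul_vecMul, smul_add]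
      abel
    exact congrFun h6 j
  choose w hw using h5
  refine ⟨w, t, ?_⟩
  have h7 : v - t ᵥ* J = f • w := funext hw
  rw [← h7]
  abel

end Local

end Groth.Agent.Lefpen.H938.LocCore
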