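import Groth.Agent.Lefpen.H718.Frame
import Groth.Agent.Lefpen.H938.LocCore
import Groth.Agent.Ega41.Cartier
import Mathlib.RingTheory.MvPolynomial.EulerIdentity
import Mathlib.FieldTheory.Perfect

/-!
# S4037, part `l = p`: a homogeneous function on the cone of a smooth complete intersection which is locally, off the
origin, a unit times a `p`-th power of the fraction field is a `p`-th power
-/

set_option autoImplicit false
universe u

open MvPolynomial IsLocalRing Matrix

namespace Groth.Agent.Lefpen.H938.RootP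

open Groth.Agent.Lefpen.H718.Reg Groth.Agent.Lefpen.H718.ConeCM Groth.Agent.Lefpen.H718.Grade
  Groth.Agent.Lefpen.H718.Frame Groth.Agent.Lefpen.H938.LocCore

variable {k : Type u} [Field k] {N d : ℕ} (g : Fin d → MvPolynomial (Fin (N + 1)) k)

/-- The Jacobian matrix with entries in the cone ring. -/
noncomputable def jac : Matrix (Fin d) (Fin (N + 1)) (A g) := fun i l => mk g (pderiv l (g i))

/-- The gradient with entries in the cone ring. -/
noncomputable def grad (F : MvPolynomial (Fin (N + 1)) k) : Fin (N + 1) → A g := fun l => mk g (pderiv l F)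

theorem mk_g (i : Fin d) : mk g (g i) = 0 := Ideal.Quotient.eq_zero_iff_mem.2 (Ideal.subset_span ⟨i, rfl⟩)

/-- Off the origin the Jacobian matrix has an invertible minor. -/
theorem exists_minor (hg : ∀ i, constantCoeff (g i) = 0) (hJ : JacCond g) (q : Ideal (A g)) [hq : q.IsPrime]
    (hne : q ≠ irr g) : ∃ σ : Fin d → Fin (N + 1), ((jac g).submatrix id σ).det ∉ q := by
  obtain ⟨j, hj⟩ : ∃ j, mk g (X j) ∉ q := by
    by_contra hcon
    push Not at hcon
    exact hne (eq_irr g q (isMaximal_irr g hg) hcon)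
  let θ : MvPolynomial (Fin (N + 1)) k →+* q.ResidueField := (algebraMap (A g) q.ResidueField).comp (mk g)
  have h1 := hJ q.ResidueField θ (fun i => by
    change algebraMap (A g) q.ResidueField (mk g (g i)) = 0
    rw [mk_g, map_zero]) ⟨j, by
      change algebraMap (A g) q.ResidueField (mk g (X j)) ≠ 0
      intro h0
      exact hj (by simpa using h0)⟩
  obtain ⟨σ, hσ⟩ := Groth.Agent.Lefpen.H718.Minor.exists_minor
    (M := ((jac g).map (algebraMap (A g) q.ResidueField))) h1
  refine ⟨σ, fun h0 => hσ ?_⟩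
  have h2 : algebraMap (A g) q.ResidueField ((jac g).submatrix id σ).det = 0 := by simpa using h0
  rw [RingHom.map_det] at h2
  exact h2

/-- The gradient of an element of the ideal of equations. -/
theorem exists_grad_eq {P : MvPolynomial (Fin (N + 1)) k} (hP : P ∈ Ideal.span (Set.range g)) :
    ∃ h : Fin d → A g, grad g P = h ᵥ* jac g := by
  obtain ⟨c, hc⟩ := (Ideal.mem_span_range_iff_exists_fun).1 hP
  refine ⟨fun i => mk g (c i), ?_⟩
  funext l
  change mk g (pderiv l P) = ∑ i, mk g (c i) * mk g (pderiv l (g i))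
  rw [← hc, map_sum, map_sum]
  refine Finset.sum_congr rfl fun i _ => ?_
  rw [Derivation.leibniz, smul_eq_mul, smul_eq_mul, map_add, map_mul, map_mul, mk_g, zero_mul, add_zero]

section CharP

variable (p : ℕ) [Fact p.Prime] [CharP k p]

omit [Fact p.Prime] in
theorem pderiv_mul_pow (l : Fin (N + 1)) (P Q : MvPolynomial (Fin (N + 1)) k) :
    pderiv l (P * Q ^ p) = pderiv l P * Q ^ p := by
  rw [Derivation.leibniz, Derivation.leibniz_pow]
  have h : (p : MvPolynomial (Fin (N + 1)) k) = 0 := CharP.cast_eq_zero _ p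
  rw [← Nat.cast_smul_eq_nsmul (MvPolynomial (Fin (N + 1)) k), h, zero_smul, smul_zero, zero_add, smul_eq_mul,
    mul_comm]

theorem local_mem [IsDomain (A g)] (hg : ∀ i, constantCoeff (g i) = 0) (hJ : JacCond g)
    (F : MvPolynomial (Fin (N + 1)) k) (h : LocPow g p (mk g F)) (q : Ideal (A g)) (hq : q.IsPrime)
    (hne : q ≠ irr g) : ∃ s : A g, s ∉ q ∧ s • grad g F ∈ M0 (mk g F) (jac g) := by
  obtain ⟨u, a, b, hu, hb, h1⟩ := h q hq hne
  obtain ⟨σ, hσ⟩ := exists_minor g hg hJ q hne
  obtain ⟨U, rfl⟩ := Ideal.Quotient.mk_surjective u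
  obtain ⟨A', rfl⟩ := Ideal.Quotient.mk_surjective a
  obtain ⟨B', rfl⟩ := Ideal.Quotient.mk_surjective b
  have h2 : F * B' ^ p - U * A' ^ p ∈ Ideal.span (Set.range g) := by
    rw [← Ideal.Quotient.eq_zero_iff_mem, map_sub, map_mul, map_mul, map_pow, map_pow, sub_eq_zero]
    exact h1
  obtain ⟨c, hc⟩ := exists_grad_eq g h2
  -- `b^p v - a^p dU = c J`
  have h3 : (mk g B') ^ p • grad g F - (mk g A') ^ p • grad g U = c ᵥ* jac g := by
    rw [← hc]
    funext l
    change (mk g B') ^ p * mk g (pderiv l F) - (mk g A') ^ p * mk g (pderiv l U) = mk g (pderiv l _)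
    rw [map_sub, pderiv_mul_pow, pderiv_mul_pow, map_sub, map_mul, map_mul, map_pow, map_pow]
    ring
  set β := (mk g B') ^ p with hβ
  have hβ0 : β ≠ 0 := pow_ne_zero _ hb
  have h1' : mk g F * β = mk g U * (mk g A') ^ p := h1
  let z : Fin (N + 1) → A g := mk g U • grad g F - mk g F • grad g U
  have h4 : β • z = (mk g U • c) ᵥ* jac g := by
    rw [Matrix.smul_vecMul, ← h3]
    funext l
    change β * (mk g U * grad g F l - mk g F * grad g U l) =
      mk g U * (β * grad g F l - (mk g A') ^ p * grad g U l)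
    linear_combination (- grad g U l) * h1'
  set δ := ((jac g).submatrix id σ).det with hδ
  let e : Fin d → A g := (z ∘ σ) ᵥ* ((jac g).submatrix id σ).adjugate
  have h5 : δ • (mk g U • c) = β • e := by
    rw [hδ, det_smul_eq, ← h4]
    have : (β • z) ∘ σ = β • (z ∘ σ) := rfl
    rw [this, Matrix.smul_vecMul]
  have h6 : β • (δ • z) = β • (e ᵥ* jac g) := by
    rw [smul_comm, h4, ← Matrix.smul_vecMul, h5, Matrix.smul_vecMul]
  have h7 : δ • z = e ᵥ* jac g := by
    funext l
    have := congrFun h6 l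
    exact mul_left_cancel₀ hβ0 this
  refine ⟨δ * mk g U, fun h0 => (hq.mem_or_mem h0).elim hσ hu, δ • grad g U, e, ?_⟩
  rw [← h7]
  change (δ * mk g U) • grad g F = mk g F • δ • grad g U + δ • (mk g U • grad g F - mk g F • grad g U)
  rw [smul_sub, smul_smul, smul_smul, smul_smul, mul_comm (mk g F) δ]
  abel

end CharP

section Descend

variable {R B : Type u} [CommRing R] [CommRing B] [Algebra R B] {r : ℕ}

theorem map_vecMul (c : Fin d → R) (J : Matrix (Fin d) (Fin r) R) :
    (fun l => algebraMap R B ((c ᵥ* J) l)) = (fun i => algebraMap R B (c i)) ᵥ* (J.map (algebraMap R B)) := by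
  funext l
  change algebraMap R B (∑ i, c i * J i l) = ∑ i, algebraMap R B (c i) * algebraMap R B (J i l)
  rw [map_sum]
  exact Finset.sum_congr rfl fun i _ => map_mul _ _ _

theorem map_mem_M0 {f s : R} {J : Matrix (Fin d) (Fin r) R} {v : Fin r → R} (h : s • v ∈ M0 f J) :
    algebraMap R B s • (fun l => algebraMap R B (v l)) ∈ M0 (algebraMap R B f) (J.map (algebraMap R B)) := by
  obtain ⟨w, c, h⟩ := h
  refine ⟨fun l => algebraMap R B (w l), fun i => algebraMap R B (c i), ?_⟩
  rw [← map_vecMul]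
  funext l
  change algebraMap R B s * algebraMap R B (v l) =
    algebraMap R B f * algebraMap R B (w l) + algebraMap R B ((c ᵥ* J) l)
  rw [← map_mul, ← map_mul, ← map_add]
  exact congrArg (algebraMap R B) (congrFun h l)

theorem exists_of_localization (S : Submonoid R) [IsLocalization S B]
    (hinj : Function.Injective (algebraMap R B)) {f : R} {J : Matrix (Fin d) (Fin r) R} {v : Fin r → R}
    (h : (fun l => algebraMap R B (v l)) ∈ M0 (algebraMap R B f) (J.map (algebraMap R B))) :
    ∃ s ∈ S, s • v ∈ M0 f J := by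
  obtain ⟨w, c, h⟩ := h
  obtain ⟨s, hs⟩ := IsLocalization.exist_integer_multiples_of_finite S (Sum.elim w c)
  have hw : ∀ l, ∃ w' : R, algebraMap R B w' = (s : R) • w l := fun l => hs (Sum.inl l)
  have hc : ∀ i, ∃ c' : R, algebraMap R B c' = (s : R) • c i := fun i => hs (Sum.inr i)
  choose w' hw' using hw
  choose c' hc' using hc
  refine ⟨s, s.2, w', c', ?_⟩
  funext l
  apply hinj
  have h1 := congrFun h l
  have h2 := congrFun (map_vecMul (B := B) c' J) l
  simp only [Pi.add_apply, Pi.smul_apply, smul_eq_mul, map_add, map_mul] at h1 ⊢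
  rw [h1, h2, hw' l]
  have h3 : ((fun i => algebraMap R B (c' i)) ᵥ* J.map (algebraMap R B)) l =
      algebraMap R B s * (c ᵥ* J.map (algebraMap R B)) l := by
    change ∑ i, algebraMap R B (c' i) * _ = algebraMap R B s * ∑ i, c i * _
    rw [Finset.mul_sum]
    refine Finset.sum_congr rfl fun i _ => ?_
    rw [hc' i, Algebra.smul_def, mul_assoc]
  rw [h3, Algebra.smul_def]
  ring

end Descend

theorem map_det_aux {R S : Type*} [CommRing R] [CommRing S] (φ : R →+* S) {m n : Type*} [DecidableEq m]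
    [Fintype m] (M : Matrix m n R) (σ : m → n) :
    φ (M.submatrix id σ).det = ((M.map φ).submatrix id σ).det :=
  RingHom.map_det φ (M.submatrix id σ)

section Main

variable {a : Fin d → ℕ} (hh : ∀ i, (g i).IsHomogeneous (a i)) (hg : ∀ i, constantCoeff (g i) = 0)
  (hJ : JacCond g) {n : ℕ} (hN : N = n + d) (hn : 2 ≤ n) (p : ℕ) [Fact p.Prime] [CharP k p]

include hh hg hJ hN hn

theorem exists_global (F : MvPolynomial (Fin (N + 1)) k) (hF : mk g F ∈ irr g) (hF0 : mk g F ≠ 0)
    (h : LocPow g p (mk g F)) : ∃ s : A g, s ∉ irr g ∧ s • grad g F ∈ M0 (mk g F) (jac g) := by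
  have hdom := isDomain g hh hg hJ hN (by omega)
  have hm := isMaximal_irr g hg
  have hp : (irr g).IsPrime := hm.isPrime
  let B := Localization.AtPrime (irr g)
  have hinj : Function.Injective (algebraMap (A g) B) := algebraMap_injective g hh
  have hdomB : IsDomain B := IsLocalization.isDomain_localization (irr g).primeCompl_le_nonZeroDivisors
  have hdepth : 3 ≤ LocCoh.depth B B := by
    rw [depth_eq_height g hJ (by omega) (irr g), height_irr g hg hJ hN]
    exact_mod_cast (by omega : 3 ≤ n + 1)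
  have hne : ∀ 𝔮 : Ideal B, 𝔮 ≠ maximalIdeal B → 𝔮.comap (algebraMap (A g) B) ≠ irr g := by
    intro 𝔮 h1 h2
    apply h1
    rw [← Localization.AtPrime.map_eq_maximalIdeal]
    exact (IsLocalization.map_under (irr g).primeCompl B 𝔮).symm.trans
      (congrArg (Ideal.map (algebraMap (A g) B)) h2)
  have hres := LocCore.main (B := B) hdepth (f := algebraMap (A g) B (mk g F)) (by
      rw [← Localization.AtPrime.map_eq_maximalIdeal]
      exact Ideal.mem_map_of_mem _ hF) (by
      rw [Ne, ← map_zero (algebraMap (A g) B), hinj.eq_iff]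
      exact hF0) ((jac g).map (algebraMap (A g) B)) (fun 𝔮 h𝔮 hne' => by
      obtain ⟨σ, hσ⟩ := exists_minor g hg hJ (𝔮.comap (algebraMap (A g) B)) (hne 𝔮 hne')
      refine ⟨σ, fun h0 => hσ ?_⟩
      have e := map_det_aux (S := Localization.AtPrime (irr g))
        (algebraMap (A g) (Localization.AtPrime (irr g))) (jac g) σ
      exact (congrArg (· ∈ 𝔮) e).mpr h0) (fun l => algebraMap (A g) B (grad g F l)) (fun 𝔮 h𝔮 hne' => by
      obtain ⟨s, hs, hs'⟩ := local_mem g p hg hJ F h (𝔮.comap (algebraMap (A g) B)) inferInstance (hne 𝔮 hne')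
      exact ⟨algebraMap (A g) B s, hs, map_mem_M0 hs'⟩)
  obtain ⟨s, hs, hs'⟩ := exists_of_localization (irr g).primeCompl hinj hres
  exact ⟨s, hs, hs'⟩

end Main

section Homog

variable {a : Fin d → ℕ} (hh : ∀ i, (g i).IsHomogeneous (a i))

theorem aux1 {R : Type*} [CommRing R] (x : R) (P : Polynomial R) {D m : ℕ} (hm : m < D) :
    (Polynomial.C x * Polynomial.X ^ D * P).coeff m = 0 := by
  rw [mul_right_comm, Polynomial.coeff_mul_X_pow', if_neg (by omega)]

theorem aux3 {R : Type*} [CommRing R] (x : R) (P : Polynomial R) (e m : ℕ) :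
    (P * (Polynomial.C x * Polynomial.X ^ e)).coeff m = (if e ≤ m then P.coeff (m - e) else 0) * x := by
  rw [← mul_assoc, Polynomial.coeff_mul_X_pow']
  split_ifs
  · rw [Polynomial.coeff_mul_C]
  · rw [zero_mul]

theorem delta_jac (i : Fin d) (l : Fin (N + 1)) : Homog g hh (a i - 1) (jac g i l) :=
  homog_mk g hh (hh i).pderiv

theorem delta_grad {F : MvPolynomial (Fin (N + 1)) k} {D : ℕ} (hF : F.IsHomogeneous D) (l : Fin (N + 1)) :
    Homog g hh (D - 1) (grad g F l) :=
  homog_mk g hh hF.pderiv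

include hh in
/-- The component of degree `D - 1`. -/
theorem exists_grad_eq_vecMul {F : MvPolynomial (Fin (N + 1)) k} {D : ℕ} (hF : F.IsHomogeneous D) (hD : 0 < D)
    {s : A g} (hs : s ∉ irr g) (h : s • grad g F ∈ M0 (mk g F) (jac g)) :
    ∃ c : Fin d → A g, grad g F = c ᵥ* jac g := by
  obtain ⟨w, c, h⟩ := h
  let γ : Fin d → A g := fun i =>
    if a i - 1 ≤ D - 1 then (delta g hh (c i)).coeff (D - 1 - (a i - 1)) else 0
  obtain ⟨ε, hε⟩ := (delta_coeff_zero_unit g hh s hs).exists_left_inv
  have key : ∀ l, (delta g hh s).coeff 0 * grad g F l = (γ ᵥ* jac g) l := by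
    intro l
    have h1 := congrArg (fun x => (delta g hh x).coeff (D - 1)) (congrFun h l)
    simp only [Pi.add_apply, Pi.smul_apply, smul_eq_mul, map_add, map_mul, Polynomial.coeff_add] at h1
    have e1 : delta g hh (grad g F l) = Polynomial.C (grad g F l) * Polynomial.X ^ (D - 1) :=
      delta_grad g hh hF l
    have e2 : delta g hh (mk g F) = Polynomial.C (mk g F) * Polynomial.X ^ D := homog_mk g hh hF
    rw [e1, e2] at h1
    have e3 : (delta g hh s * (Polynomial.C (grad g F l) * Polynomial.X ^ (D - 1))).coeff (D - 1) =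
        (delta g hh s).coeff 0 * grad g F l := by
      rw [aux3, if_pos le_rfl, Nat.sub_self]
    have e4 : (Polynomial.C (mk g F) * Polynomial.X ^ D * delta g hh (w l)).coeff (D - 1) = 0 :=
      aux1 _ _ (by omega)
    rw [e3, e4, zero_add] at h1
    rw [h1]
    change (delta g hh (∑ i, c i * jac g i l)).coeff (D - 1) = ∑ i, γ i * jac g i l
    rw [map_sum, Polynomial.finsetSum_coeff]
    refine Finset.sum_congr rfl fun i _ => ?_
    have e5 : delta g hh (jac g i l) = Polynomial.C (jac g i l) * Polynomial.X ^ (a i - 1) := delta_jac g hh i l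
    rw [map_mul, e5]
    exact aux3 _ _ _ _
  refine ⟨ε • γ, ?_⟩
  funext l
  rw [Matrix.smul_vecMul, Pi.smul_apply, ← key l, smul_eq_mul, ← mul_assoc, hε, one_mul]

end Homog

section Diff

theorem derivation_eq (p : ℕ) [Fact p.Prime] [CharP k p] [PerfectRing k p] {K : Type u} [Field K] (φ : MvPolynomial (Fin (N + 1)) k →+* K)
    (P : MvPolynomial (Fin (N + 1)) k) :
    KaehlerDifferential.D ℤ K (φ P) = ∑ l, φ (pderiv l P) • KaehlerDifferential.D ℤ K (φ (X l)) := by
  have hK : CharP K p := charP_of_injective_ringHom ((φ.comp C).injective) p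
  have hC : ∀ c : k, KaehlerDifferential.D ℤ K (φ (C c)) = 0 := by
    intro c
    obtain ⟨b, rfl⟩ := surjective_frobenius k p c
    rw [frobenius_def, map_pow, map_pow, Derivation.leibniz_pow]
    have h : (p : K) = 0 := CharP.cast_eq_zero _ p
    rw [← Nat.cast_smul_eq_nsmul K, h, zero_smul]
  induction P using MvPolynomial.induction_on with
  | C c =>
    rw [hC, Finset.sum_eq_zero]
    intro l _
    rw [pderiv_C, map_zero, zero_smul]
  | add P Q hP hQ =>
    rw [map_add, map_add, hP, hQ, ← Finset.sum_add_distrib]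
    refine Finset.sum_congr rfl fun l _ => ?_
    rw [map_add, map_add, add_smul]
  | mul_X P j hP =>
    rw [map_mul, Derivation.leibniz, hP]
    have h1 : ∀ l, φ (pderiv l (P * X j)) • KaehlerDifferential.D ℤ K (φ (X l)) =
        φ P • (φ (pderiv l (X j)) • KaehlerDifferential.D ℤ K (φ (X l))) +
        φ (X j) • (φ (pderiv l P) • KaehlerDifferential.D ℤ K (φ (X l))) := by
      intro l
      rw [Derivation.leibniz, smul_eq_mul, smul_eq_mul, map_add, map_mul, map_mul, add_smul, mul_smul, mul_smul]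
    rw [Finset.sum_congr rfl fun l _ => h1 l, Finset.sum_add_distrib, ← Finset.smul_sum, ← Finset.smul_sum]
    congr 2
    rw [Finset.sum_eq_single j]
    · rw [pderiv_X_self, map_one, one_smul]
    · intro l _ hl
      rw [pderiv_X_of_ne hl.symm, map_zero, zero_smul]
    · intro h
      exact absurd (Finset.mem_univ j) h

theorem exists_pow_eq' (p : ℕ) [Fact p.Prime] [CharP k p] [PerfectRing k p] [IsDomain (A g)]
    [IsIntegrallyClosed (A g)] (K : Type u) [Field K] [Algebra (A g) K] [IsFractionRing (A g) K]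
    {F : MvPolynomial (Fin (N + 1)) k}
    {c : Fin d → A g} (h : grad g F = c ᵥ* jac g) : ∃ w : A g, mk g F = w ^ p := by
  let φ : MvPolynomial (Fin (N + 1)) k →+* K := (algebraMap (A g) K).comp (mk g)
  have hK : CharP K p := charP_of_injective_ringHom ((φ.comp C).injective) p
  have h1 : KaehlerDifferential.D ℤ K (φ F) = 0 := by
    rw [derivation_eq p φ F]
    have h2 : ∀ l, φ (pderiv l F) = ∑ i, algebraMap (A g) K (c i) * φ (pderiv l (g i)) := by
      intro l
      have := congrArg (algebraMap (A g) K) (congrFun h l)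
      change algebraMap (A g) K (mk g (pderiv l F)) = _
      have h3 : mk g (pderiv l F) = ∑ i, c i * mk g (pderiv l (g i)) := congrFun h l
      rw [h3, map_sum]
      exact Finset.sum_congr rfl fun i _ => map_mul _ _ _
    simp_rw [h2, Finset.sum_smul, mul_smul]
    rw [Finset.sum_comm]
    refine Finset.sum_eq_zero fun i _ => ?_
    rw [← Finset.smul_sum, ← derivation_eq p φ (g i)]
    have h4 : φ (g i) = 0 := by
      change algebraMap (A g) K (mk g (g i)) = 0
      rw [mk_g, map_zero]
    rw [h4, map_zero, smul_zero]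
  have h2 : ∃ b : K, b ^ p = φ F := by
    by_contra hcon
    push Not at hcon
    exact Groth.Agent.Ega41.Cartier.D_ne_zero p (φ F) hcon h1
  obtain ⟨b, hb⟩ := h2
  have hpos : 0 < p := (Fact.out : p.Prime).pos
  have hint : IsIntegral (A g) b := by
    refine IsIntegral.of_pow hpos ?_
    rw [hb]
    exact isIntegral_algebraMap (x := mk g F)
  obtain ⟨w, rfl⟩ := IsIntegrallyClosed.isIntegral_iff.1 hint
  refine ⟨w, ?_⟩
  apply IsFractionRing.injective (A g) K
  rw [map_pow, hb]
  rfl

theorem exists_pow_eq (p : ℕ) [Fact p.Prime] [CharP k p] [PerfectRing k p] [IsDomain (A g)]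
    [IsIntegrallyClosed (A g)] {F : MvPolynomial (Fin (N + 1)) k}
    {c : Fin d → A g} (h : grad g F = c ᵥ* jac g) : ∃ w : A g, mk g F = w ^ p :=
  exists_pow_eq' g p (FractionRing (A g)) h

end Diff

theorem root_p {k : Type u} [Field k] [IsAlgClosed k] {N d n : ℕ} (g : Fin d → MvPolynomial (Fin (N + 1)) k)
    {a : Fin d → ℕ} (hh : ∀ i, (g i).IsHomogeneous (a i)) (hg : ∀ i, constantCoeff (g i) = 0) (hJ : JacCond g)
    (hN : N = n + d) (hn : 2 ≤ n) (p : ℕ) [Fact p.Prime] [CharP k p]
    (f : A g) (D : ℕ) (hf : Homog g hh D f) (hf0 : f ≠ 0) (h : LocPow g p f) : ∃ w : A g, f = w ^ p := by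
  have hdom := isDomain g hh hg hJ hN (by omega)
  have hic := isIntegrallyClosed g hh hg hJ hN (by omega)
  obtain ⟨F, hF, rfl⟩ := (homog_iff g hh).1 hf
  have hperf : PerfectRing k p := inferInstance
  rcases Nat.eq_zero_or_pos D with rfl | hD
  · have h1 : F = C (coeff 0 F) := by
      rw [← MvPolynomial.totalDegree_eq_zero_iff_eq_C]
      exact Nat.le_zero.1 hF.totalDegree_le
    obtain ⟨b, hb⟩ := surjective_frobenius k p (coeff 0 F)
    refine ⟨mk g (C b), ?_⟩
    rw [h1, ← map_pow, ← C_pow, ← hb, frobenius_def]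
  · have hirr : mk g F ∈ irr g := by
      refine Ideal.mem_map_of_mem _ ?_
      rw [span_X_eq_ker, RingHom.mem_ker, constantCoeff_eq]
      exact hF.coeff_eq_zero (by
        intro h0
        rw [map_zero] at h0
        omega)
    obtain ⟨s, hs, hs'⟩ := exists_global g hh hg hJ hN hn p F hirr hf0 h
    obtain ⟨c, hc⟩ := exists_grad_eq_vecMul g hh hF hD hs hs'
    exact exists_pow_eq g p hc

end Groth.Agent.Lefpen.H938.RootP
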